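/-!
# The plane of the elementary subgroup: tables
-/

set_option autoImplicit false

namespace Cfsg.Agent.H32.LargeFischer

/-- The sixty four vectors. -/
def wL : List Nat :=
  [0, 5, 10, 15, 80, 85, 90, 95, 160, 165, 170, 175, 240, 245, 250, 255, 1280, 1285, 1290, 1295, 1360, 1365, 1370, 1375, 1440, 1445, 1450, 1455, 1520, 1525, 1530, 1535, 2560, 2565, 2570, 2575, 2640, 2645, 2650, 2655, 2720, 2725, 2730, 2735, 2800, 2805, 2810, 2815, 3840, 3845, 3850, 3855, 3920, 3925, 3930, 3935, 4000, 4005, 4010, 4015, 4080, 4085, 4090, 4095]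

/-- The sixteen matrices fixing them. -/
def kL : List Nat := [
  1180663682709764194305,
  295436136656089923585,
  295436139953819488260,
  393458478246784222545,
  393458481544513787220,
  497246922717801695985,
  497246926015531260660,
  583737058547849645985,
  583737061845579210660,
  1180663679412034605060,
  1278686021002728904020,
  1278686024300458493265,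
  1382474465473746377460,
  1382474468771475966705,
  1468964601303794327460,
  1468964604601523916705]

/-- Vectors with the displacements of each matrix. -/
def kPre : List (List Nat) := [
  [],
  [0, 16, 32, 48, 256, 272, 288, 304, 512, 528, 544, 560, 768, 784, 800, 816],
  [0, 1, 2, 3, 256, 257, 258, 259, 512, 513, 514, 515, 768, 769, 770, 771],
  [0, 1, 2, 3, 16, 17, 18, 19, 32, 33, 34, 35, 48, 49, 50, 51],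
  [0, 1, 2, 3, 16, 17, 18, 19, 32, 33, 34, 35, 48, 49, 50, 51],
  [0, 1, 2, 3, 16, 17, 18, 19, 32, 33, 34, 35, 48, 49, 50, 51],
  [0, 1, 2, 3, 16, 17, 18, 19, 32, 33, 34, 35, 48, 49, 50, 51],
  [0, 1, 2, 3, 16, 17, 18, 19, 32, 33, 34, 35, 48, 49, 50, 51],
  [0, 1, 2, 3, 16, 17, 18, 19, 32, 33, 34, 35, 48, 49, 50, 51],
  [0, 1, 2, 3, 16, 17, 18, 19, 32, 33, 34, 35, 48, 49, 50, 51],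
  [0, 1, 2, 3, 256, 257, 258, 259, 512, 513, 514, 515, 768, 769, 770, 771],
  [0, 1, 2, 3, 16, 17, 18, 19, 32, 33, 34, 35, 48, 49, 50, 51],
  [0, 1, 2, 3, 256, 257, 258, 259, 512, 513, 514, 515, 768, 769, 770, 771],
  [0, 1, 2, 3, 16, 17, 18, 19, 32, 33, 34, 35, 48, 49, 50, 51],
  [0, 1, 2, 3, 256, 257, 258, 259, 512, 513, 514, 515, 768, 769, 770, 771],
  [0, 1, 2, 3, 16, 17, 18, 19, 32, 33, 34, 35, 48, 49, 50, 51]]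

/-- Vectors with the displacements of each involution of the small list. -/
def ePre : List (List Nat) := [
  [],
  [0, 1, 2, 3, 4, 5, 6, 7, 8, 9, 10, 11, 12, 13, 14, 15],
  [0, 1, 2, 3, 4, 5, 6, 7, 8, 9, 10, 11, 12, 13, 14, 15],
  [0, 1, 2, 3, 16, 17, 18, 19, 32, 33, 34, 35, 48, 49, 50, 51],
  [0, 1, 2, 3, 256, 257, 258, 259, 512, 513, 514, 515, 768, 769, 770, 771],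
  [0, 1, 2, 3, 4, 5, 6, 7, 8, 9, 10, 11, 12, 13, 14, 15],
  [0, 1, 2, 3, 16, 17, 18, 19, 32, 33, 34, 35, 48, 49, 50, 51],
  [0, 1, 2, 3, 4, 5, 6, 7, 8, 9, 10, 11, 12, 13, 14, 15],
  [0, 1, 2, 3, 64, 65, 66, 67, 128, 129, 130, 131, 192, 193, 194, 195],
  [0, 1, 2, 3, 16, 17, 18, 19, 32, 33, 34, 35, 48, 49, 50, 51],
  [0, 1, 2, 3, 4, 5, 6, 7, 8, 9, 10, 11, 12, 13, 14, 15],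
  [0, 1, 2, 3, 16, 17, 18, 19, 32, 33, 34, 35, 48, 49, 50, 51],
  [0, 1, 2, 3, 4, 5, 6, 7, 8, 9, 10, 11, 12, 13, 14, 15],
  [0, 1, 2, 3, 4, 5, 6, 7, 8, 9, 10, 11, 12, 13, 14, 15],
  [0, 1, 2, 3, 64, 65, 66, 67, 128, 129, 130, 131, 192, 193, 194, 195],
  [0, 1, 2, 3, 4, 5, 6, 7, 8, 9, 10, 11, 12, 13, 14, 15]]

/-- Words conjugating the first matrix to each other one. -/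
def kTr : List (List Nat) := [
  [],
  [],
  [2, 3, 2],
  [2, 3, 2, 0, 0, 3, 0, 2, 3, 2],
  [0, 0, 0, 0, 2, 3, 0, 2, 0, 2, 3, 2],
  [2, 3, 2, 1, 1, 0, 0, 3, 1, 1, 0, 1],
  [2, 2, 2, 2, 0, 0, 1, 1, 3, 0, 2],
  [0, 0, 2, 2, 2, 2, 0, 0, 3, 2, 2, 0, 1, 0, 0],
  [0, 0, 2, 2, 2, 2, 0, 0, 3, 0, 3, 2, 0],
  [2, 3, 2, 2, 3, 2],
  [0, 0, 3, 0, 2, 3, 2],
  [1, 1, 0, 0, 3, 0, 0, 2, 2, 0, 2, 1, 1, 1, 0, 0, 3, 1, 1, 0, 1],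
  [1, 1, 0, 0, 3, 1, 1, 0, 1],
  [2, 2, 2, 2, 0, 0, 0, 0, 2, 3, 0, 2, 1],
  [1, 1, 1, 1, 0, 0, 1, 1, 3, 0, 1, 1],
  [1, 1, 0, 0, 3, 0, 0, 2, 2, 0, 2, 1]]

/-- Words with distinct actions on the vectors. -/
def bigW : List (List Nat) := [
  [],
  [2, 3, 2, 1, 1, 1, 1, 2, 1, 2],
  [1, 1, 0, 0, 3, 0, 2, 3, 2, 0, 0, 0, 3, 0, 2, 3, 2],
  [1, 1, 0, 0, 3, 0, 2, 3, 2, 0, 2, 3, 2],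
  [2, 3, 2, 0, 0, 3, 0],
  [1, 1, 1, 1, 2, 1, 2, 0, 0, 3, 0],
  [0, 0, 2, 2, 2, 2, 0, 0, 1, 1, 3, 0, 1, 0, 0, 2],
  [2, 2, 2, 2, 0, 0, 0, 0, 2, 3, 0, 2, 1, 2, 3, 2],
  [1, 1, 1, 1, 2, 1, 2, 1, 1, 0, 0, 3, 1, 1, 0, 1],
  [0, 0, 2, 2, 2, 2, 2, 2, 2, 2, 0, 0, 1, 0, 2, 3, 2],
  [2, 2, 2, 2, 0, 0, 1, 1, 1, 1, 0, 3, 0, 2, 0],
  [2, 3, 2, 1, 1, 1, 1, 0, 0, 2, 1, 0, 0, 2],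
  [1, 1, 2, 2, 2, 2, 3, 0, 0, 3, 2, 2, 2, 0, 0, 1],
  [2, 3, 2, 1, 1, 0, 0, 3, 1, 1, 0, 1],
  [0, 0, 2, 1, 1, 0, 2, 0, 1, 1, 1, 1, 2, 1, 2],
  [1, 1, 0, 0, 3, 0, 2, 3, 2, 0, 2, 3, 2, 2, 3, 2],
  [1, 1, 1, 1, 0, 0, 1, 1, 0, 2, 3, 2, 0, 0],
  [0, 0, 1, 1, 0, 0, 1, 1, 2, 1, 0, 2, 0, 0, 3, 0],
  [1, 1, 0, 0, 3, 0, 2, 3, 2, 0, 0, 0, 3, 0],
  [2, 3, 2, 0, 0, 2, 1, 1, 0, 2, 0, 2, 3, 2],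
  [2, 3, 2, 0, 0, 1, 1, 0, 0, 1, 1, 2, 1, 0, 2],
  [2, 3, 2, 1, 1, 1, 1, 0, 0, 1, 1, 3, 0, 1, 1],
  [0, 0, 0, 0, 1, 1, 0, 0, 3, 1, 2, 2, 0],
  [1, 1, 1, 1, 0, 0, 2, 1, 0, 0, 2, 0, 0, 3, 0],
  [1, 1, 0, 0, 3, 0, 2, 3, 2, 0],
  [1, 1, 1, 1, 2, 1, 2],
  [2, 3, 2, 2, 3, 2],
  [2, 3, 2, 0, 0, 3, 0, 2, 3, 2],
  [1, 1, 2, 2, 2, 2, 3, 2, 2, 2, 1, 1, 0, 0, 3, 0],
  [0, 0, 3, 0],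
  [1, 1, 1, 1, 0, 0, 2, 1, 0, 0, 2],
  [1, 1, 0, 0, 3, 2, 0, 0, 3, 2, 0, 0, 3, 0],
  [0, 0, 0, 0, 1, 1, 0, 0, 2, 2, 0, 0, 2, 3, 2],
  [0, 0, 0, 0, 1, 1, 0, 0, 3, 1, 2, 2, 0, 2, 3, 2],
  [1, 1, 0, 0, 3, 1, 1, 0, 1],
  [0, 0, 1, 1, 0, 0, 1, 1, 2, 1, 0, 2],
  [1, 1, 0, 0, 0, 0, 3, 2, 0, 3, 2, 0, 0, 3, 0],
  [0, 0, 2, 1, 1, 0, 2, 0, 2, 3, 2],
  [1, 1, 1, 1, 0, 0, 1, 1, 3, 0, 1, 1],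
  [2, 3, 2, 1, 1, 0, 0, 3, 0, 2, 3, 2, 0, 2, 3, 2],
  [2, 3, 2],
  [0, 0, 3, 0, 2, 3, 2],
  [1, 1, 1, 1, 2, 1, 2, 2, 3, 2],
  [0, 0, 2, 2, 2, 2, 3, 2, 2, 2, 2, 0, 0, 3, 0, 1],
  [0, 0, 2, 1, 1, 0, 2, 0],
  [0, 0, 0, 0, 2, 3, 0, 2, 0],
  [0, 0, 1, 1, 0, 0, 1, 1, 2, 1, 0, 2, 2, 3, 2],
  [0, 0, 2, 1, 1, 0, 2, 0, 2, 3, 2, 0, 0, 3, 0],
  [0, 0, 2, 2, 2, 2, 2, 2, 2, 2, 3, 1, 0, 1, 0, 0],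
  [0, 0, 0, 0, 1, 1, 0, 0, 2, 2, 0, 0],
  [0, 0, 3, 0, 0, 0, 0, 0, 1, 1, 0, 0, 2, 2, 0, 0],
  [1, 1, 1, 1, 0, 0, 2, 1, 0, 0, 2, 2, 3, 2],
  [1, 1, 0, 0, 3, 0, 0, 2, 2, 0, 2, 1, 2, 3, 2],
  [0, 0, 2, 2, 2, 2, 3, 2, 0, 2, 2, 2, 0],
  [2, 3, 2, 0, 0, 2, 1, 1, 0, 2, 0],
  [2, 3, 2, 0, 0, 0, 0, 2, 3, 0, 2, 0],
  [0, 0, 2, 2, 2, 2, 2, 2, 2, 2, 0, 0, 1, 0],
  [0, 0, 2, 2, 2, 2, 2, 2, 2, 2, 3, 2, 1, 0, 2, 0],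
  [1, 1, 0, 0, 3, 0, 0, 2, 2, 0, 2, 1, 0, 0, 3, 0],
  [2, 3, 2, 1, 1, 0, 0, 0, 0, 3, 2, 0, 3, 2],
  [2, 2, 2, 2, 0, 0, 1, 1, 3, 0, 2, 2, 3, 2],
  [0, 0, 3, 0, 1, 1, 0, 0, 3, 2, 0, 0, 3, 2],
  [1, 1, 0, 0, 0, 0, 3, 2, 0, 3, 2],
  [2, 3, 2, 1, 1, 0, 0, 3, 0, 0, 2, 2, 0, 2, 1],
  [1, 1, 2, 2, 2, 2, 3, 0, 0, 2, 2, 2, 1, 0, 1],
  [1, 1, 2, 2, 2, 2, 0, 0, 3, 0, 2, 2, 2, 1, 0],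
  [2, 2, 2, 2, 0, 0, 1, 1, 3, 0, 2],
  [1, 1, 0, 0, 3, 1, 1, 0, 1, 0, 0, 3, 0],
  [0, 0, 0, 0, 2, 3, 0, 2, 0, 2, 3, 2],
  [0, 0, 0, 0, 2, 3, 0, 2, 0, 0, 0, 3, 0, 2, 3, 2],
  [1, 1, 0, 0, 3, 2, 0, 0, 3, 2, 2, 3, 2],
  [0, 0, 3, 0, 0, 0, 1, 1, 0, 0, 1, 1, 2, 1, 0, 2],
  [2, 3, 2, 0, 0, 2, 2, 2, 2, 0, 0, 3, 0, 3, 2, 0],
  [1, 1, 0, 0, 3, 1, 1, 0, 1, 1, 1, 1, 1, 2, 1, 2],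
  [2, 3, 2, 0, 0, 0, 0, 1, 1, 0, 0, 2, 2, 0, 0],
  [0, 0, 2, 2, 2, 2, 0, 0, 3, 2, 2, 0, 1, 0, 0],
  [0, 0, 3, 0, 2, 3, 2, 0, 0, 0, 0, 2, 3, 0, 2, 0],
  [0, 0, 0, 0, 2, 3, 0, 2, 0, 1, 1, 1, 1, 2, 1, 2],
  [2, 3, 2, 2, 2, 2, 2, 0, 0, 0, 0, 2, 3, 0, 2, 1],
  [0, 0, 0, 0, 2, 3, 0, 2, 0, 0, 0, 3, 0],
  [2, 3, 2, 1, 1, 0, 0, 3, 2, 0, 0, 3, 2],
  [0, 0, 0, 0, 2, 3, 0, 2, 0, 2, 3, 2, 2, 3, 2],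
  [2, 3, 2, 0, 0, 0, 0, 1, 1, 0, 0, 3, 1, 2, 2, 0],
  [2, 3, 2, 1, 1, 0, 0, 3, 0, 2, 3, 2, 0],
  [1, 1, 1, 1, 0, 0, 1, 1, 3, 0, 1, 1, 0, 0, 3, 0],
  [1, 1, 0, 0, 3, 0, 0, 2, 2, 0, 2, 1],
  [1, 1, 0, 0, 0, 0, 3, 2, 0, 3, 2, 2, 3, 2],
  [0, 0, 3, 0, 1, 1, 1, 1, 0, 0, 2, 1, 0, 0, 2],
  [2, 3, 2, 2, 2, 2, 2, 0, 0, 1, 1, 3, 0, 2],
  [0, 0, 2, 2, 2, 2, 3, 2, 0, 2, 2, 2, 0, 2, 3, 2],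
  [0, 0, 2, 2, 2, 2, 0, 0, 3, 0, 3, 2, 0],
  [2, 3, 2, 0, 0, 2, 2, 2, 2, 3, 2, 0, 2, 2, 2, 0],
  [2, 2, 2, 2, 0, 0, 0, 0, 2, 3, 0, 2, 1],
  [1, 1, 0, 0, 3, 2, 0, 0, 3, 2],
  [2, 3, 2, 0, 0, 0, 0, 2, 3, 0, 2, 0, 2, 3, 2],
  [2, 3, 2, 1, 1, 0, 0, 3, 1, 1, 0, 1, 0, 0, 3, 0]]

/-- Words carrying the sixty four vectors to the planes through the short seed. -/
def planeW : List (List Nat) := [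
  [],
  [1],
  [2],
  [1, 1],
  [2, 1],
  [1, 2],
  [3, 2],
  [2, 1, 1],
  [1, 2, 1],
  [3, 2, 1],
  [1, 2, 1, 1],
  [2, 2, 1, 1],
  [3, 2, 1, 1],
  [1, 2, 2, 1, 1],
  [2, 3, 2, 1, 1],
  [0, 2, 3, 0, 2, 1, 0],
  [0, 2, 3, 0, 2, 0, 1],
  [0, 2, 3, 0, 2, 1, 0, 0],
  [0, 2, 3, 0, 2, 0, 1, 0],
  [0, 3, 2, 2, 0, 2, 1, 0],
  [2, 0, 2, 3, 0, 2, 1, 0],
  [3, 0, 2, 3, 0, 2, 1, 0],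
  [0, 3, 2, 0, 2, 2, 1, 0],
  [0, 2, 3, 0, 2, 1, 0, 1],
  [3, 0, 2, 3, 0, 2, 0, 1],
  [1, 0, 2, 3, 0, 2, 1, 0, 0],
  [3, 0, 2, 3, 0, 2, 1, 0, 0]]

/-- Representatives of the vectors orthogonal to the short seed. -/
def repR : List Nat :=
  [5, 17, 20, 65, 68, 80, 85, 90, 95, 102, 105, 119, 125, 257, 260, 272, 277, 282, 287, 294, 297, 311, 317, 320, 325, 330, 335, 337, 340, 354, 360, 371, 380, 390, 393, 402, 408, 417, 420, 455, 461, 467, 476, 497, 500]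

end Cfsg.Agent.H32.LargeFischer
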